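import Cfsg.Agent.FusionTwo.Dihedral

/-!
Consequences for groups with dihedral Sylow 2-subgroups: normal complements, fused involutions,
classes of four subgroups.
-/

set_option autoImplicit false

namespace CfsgLib.FusionTwo.DihFusion

variable {G : Type*} [Group G] [Finite G] {S : Sylow 2 G} {n : ℕ} {x y : G}

local notation "𝐳" => x ^ ((2 : ℤ) ^ (n - 1))

open scoped Classical in
theorem actFour (h : IsDihGen (S : Subgroup G) n x y) {U : Subgroup G} {i : ℤ}
    (hU : ∀ g, g ∈ U ↔ g = 1 ∨ g = 𝐳 ∨ g = x ^ i * y ∨ g = 𝐳 * (x ^ i * y)) :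
    (∀ g ∈ Subgroup.normalizer (U : Set G), ∀ a ∈ ({𝐳, x ^ i * y, 𝐳 * (x ^ i * y)} : Finset G),
      g * a * g⁻¹ ∈ ({𝐳, x ^ i * y, 𝐳 * (x ^ i * y)} : Finset G)) ∧
    ∀ g ∈ Subgroup.normalizer (U : Set G), g ∈ Subgroup.centralizer (U : Set G) ↔
      ∀ a ∈ ({𝐳, x ^ i * y, 𝐳 * (x ^ i * y)} : Finset G), g * a * g⁻¹ = a := by
  have hmem : ∀ a ∈ ({𝐳, x ^ i * y, 𝐳 * (x ^ i * y)} : Finset G), a ∈ U ∧ a ≠ 1 := by
    intro a ha
    simp only [Finset.mem_insert, Finset.mem_singleton] at ha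
    rcases ha with rfl | rfl | rfl
    · refine ⟨(hU _).2 (Or.inr (Or.inl rfl)), fun e => ?_⟩
      have h2 := h.orderOf_z
      rw [e, orderOf_one] at h2
      omega
    · refine ⟨(hU _).2 (Or.inr (Or.inr (Or.inl rfl))), fun e => ?_⟩
      exact h.zpow_mul_y_ne i 0 (by rw [e, zpow_zero])
    · refine ⟨(hU _).2 (Or.inr (Or.inr (Or.inr rfl))), fun e => ?_⟩
      rw [← mul_assoc, ← zpow_add] at e
      exact h.zpow_mul_y_ne _ 0 (by rw [e, zpow_zero])
  refine ⟨fun g hg a ha => ?_, fun g _ => ⟨fun hc a ha => ?_, fun hfix => ?_⟩⟩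
  · obtain ⟨haU, ha1⟩ := hmem a ha
    rcases (hU _).1 (conj_mem_of_mem_normalizer hg haU) with e | e | e | e
    · exact absurd (conj_eq_one_iff.1 e) ha1
    all_goals simp [e]
  · rw [← Subgroup.mem_centralizer_iff.1 hc a (hmem a ha).1]
    group
  · rw [Subgroup.mem_centralizer_iff]
    intro a ha
    rcases (hU a).1 ha with rfl | rfl | rfl | rfl
    · simp
    all_goals exact (mul_inv_eq_iff_eq_mul.1 (hfix _ (by simp))).symm

/-- For `n ≥ 2`, the rotation of order four induces a transposition on a four subgroup. -/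
theorem quarter_turn (h : IsDihGen (S : Subgroup G) n x y) (hn : 2 ≤ n) {U : Subgroup G} {i : ℤ}
    (hU : ∀ g, g ∈ U ↔ g = 1 ∨ g = 𝐳 ∨ g = x ^ i * y ∨ g = 𝐳 * (x ^ i * y)) :
    x ^ ((2 : ℤ) ^ (n - 2)) ∈ Subgroup.normalizer (U : Set G) ∧
      x ^ ((2 : ℤ) ^ (n - 2)) ∉ Subgroup.centralizer (U : Set G) ∧
      x ^ ((2 : ℤ) ^ (n - 2)) * x ^ ((2 : ℤ) ^ (n - 2)) ∈ Subgroup.centralizer (U : Set G) ∧
      x ^ ((2 : ℤ) ^ (n - 2)) * 𝐳 * (x ^ ((2 : ℤ) ^ (n - 2)))⁻¹ = 𝐳 := by
  have hp : (2 : ℤ) ^ (n - 1) = 2 * 2 ^ (n - 2) := by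
    rw [← pow_succ']
    congr 1
    omega
  have huz : x ^ ((2 : ℤ) ^ (n - 2)) * 𝐳 * (x ^ ((2 : ℤ) ^ (n - 2)))⁻¹ = 𝐳 := by group
  have hur : x ^ ((2 : ℤ) ^ (n - 2)) * (x ^ i * y) * (x ^ ((2 : ℤ) ^ (n - 2)))⁻¹ =
      𝐳 * (x ^ i * y) := by
    rw [h.conj_refl, ← mul_assoc, ← zpow_add, ← hp, add_comm]
  have hz2 : 𝐳 * 𝐳 = 1 := by rw [← pow_two, ← h.orderOf_z, pow_orderOf_eq_one]
  refine ⟨mem_normalizer_of_conj_mem fun a ha => ?_, fun hc => ?_, ?_, huz⟩
  · rcases (hU a).1 ha with rfl | rfl | rfl | rfl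
    · simp [U.one_mem]
    · rw [huz]; exact (hU _).2 (Or.inr (Or.inl rfl))
    · rw [hur]; exact (hU _).2 (Or.inr (Or.inr (Or.inr rfl)))
    · rw [← conj_mul, huz, hur, ← mul_assoc, hz2, one_mul]
      exact (hU _).2 (Or.inr (Or.inr (Or.inl rfl)))
  · have h1 : x ^ ((2 : ℤ) ^ (n - 2)) * (x ^ i * y) * (x ^ ((2 : ℤ) ^ (n - 2)))⁻¹ = x ^ i * y := by
      rw [← Subgroup.mem_centralizer_iff.1 hc _ ((hU _).2 (Or.inr (Or.inr (Or.inl rfl))))]
      group
    rw [hur] at h1
    have h2 := h.orderOf_z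
    rw [mul_eq_right.1 h1, orderOf_one] at h2
    omega
  · rw [← zpow_add, ← two_mul, ← hp, Subgroup.mem_centralizer_iff]
    intro a ha
    rcases (hU a).1 ha with rfl | rfl | rfl | rfl
    · simp
    · rfl
    · exact (h.z_comm (h.refl_mem i)).symm
    · rw [mul_assoc, ← h.z_comm (h.refl_mem i)]

/-- When `S` is a four group, an element of `N(S)` with square in `C(S)` is in `C(S)`. -/
theorem mem_centralizer_of_sq (h : IsDihGen (S : Subgroup G) n x y) (hn : n = 1) {g : G}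
    (hg : g ∈ Subgroup.normalizer ((S : Subgroup G) : Set G))
    (hsq : g * g ∈ Subgroup.centralizer ((S : Subgroup G) : Set G)) :
    g ∈ Subgroup.centralizer ((S : Subgroup G) : Set G) := by
  refine mem_of_odd_of_two g (fun k hk ho => ?_) (fun k hk h2 => ?_)
  · obtain ⟨i, rfl⟩ := Subgroup.mem_zpowers_iff.1 hk
    obtain ⟨j, hj⟩ := ho
    have e : g ^ i = ((g * g) ^ i) ^ (-(j : ℤ)) := by
      have h1 : (g ^ i) ^ ((2 * j + 1 : ℕ) : ℤ) = 1 := by
        rw [zpow_natCast, ← hj, pow_orderOf_eq_one]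
      rw [← zpow_two, ← zpow_mul, ← zpow_mul]
      rw [← zpow_mul] at h1
      calc g ^ i = g ^ i * (g ^ (i * ((2 * j + 1 : ℕ) : ℤ)))⁻¹ := by rw [h1, inv_one, mul_one]
        _ = g ^ (2 * (i * -(j : ℤ))) := by
          rw [← zpow_neg, ← zpow_add]
          congr 1
          push_cast
          ring
    rw [e]
    exact Subgroup.zpow_mem _ (Subgroup.zpow_mem _ hsq i) _
  · have hkN := (Subgroup.zpowers_le.2 hg) hk
    have hW := S.2.to_sup_of_normal_left' h2 ((Subgroup.zpowers_le).2 hkN)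
    have hkS : k ∈ (S : Subgroup G) := by
      rw [← S.is_maximal' hW le_sup_left]
      exact Subgroup.mem_sup_right (Subgroup.mem_zpowers k)
    rw [Subgroup.mem_centralizer_iff]
    intro a ha
    have hcomm : ∀ a ∈ (S : Subgroup G), ∀ b ∈ (S : Subgroup G), a * b = b * a := by
      have hyx : y * x = x * y := by
        have hx2 : x⁻¹ = x := by
          apply inv_eq_of_mul_eq_one_left
          rw [← pow_two, show 2 = 2 ^ n by rw [hn]; rfl, ← h.ox, pow_orderOf_eq_one]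
        have := h.rel
        rw [hx2] at this
        exact mul_inv_eq_iff_eq_mul.1 this
      intro a ha b hb
      obtain ⟨p, rfl | rfl⟩ := h.mem_cases ha <;> obtain ⟨q, rfl | rfl⟩ := h.mem_cases hb
      · exact (Commute.zpow_zpow_self x p q).eq
      · exact ((Commute.zpow_zpow_self x p q).mul_right
          ((show Commute x y from hyx.symm).zpow_left p)).eq
      · exact ((Commute.zpow_zpow_self x p q).mul_left
          ((show Commute y x from hyx).zpow_right q)).eq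
      · exact (((Commute.zpow_zpow_self x p q).mul_right
          ((show Commute x y from hyx.symm).zpow_left p)).mul_left
          (((show Commute y x from hyx).zpow_right q).mul_right (Commute.refl y))).eq
    exact hcomm a ha k hkS

theorem eq_sylow_of_one (h : IsDihGen (S : Subgroup G) n x y) (hn : n = 1) {U : Subgroup G}
    (hU : IsKleinFour U) (hUS : U ≤ (S : Subgroup G)) : U = (S : Subgroup G) :=
  Subgroup.eq_of_le_of_card_ge hUS (by rw [h.card, hU.card_four, hn]; rfl)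

theorem card_eq_four_iff (h : IsDihGen (S : Subgroup G) n x y) : Nat.card S = 4 ↔ n = 1 := by
  rw [h.card, show (4 : ℕ) = 2 ^ 2 from rfl, Nat.pow_right_injective (le_refl 2) |>.eq_iff]
  omega

/-- If `N(U)` moves `z`, the automiser of `U` is as large as possible. -/
theorem relIndex_of_move (h : IsDihGen (S : Subgroup G) n x y) {U : Subgroup G}
    (hUk : IsKleinFour U) (hUS : U ≤ (S : Subgroup G))
    (hmove : ∃ g ∈ Subgroup.normalizer (U : Set G), g * 𝐳 * g⁻¹ ≠ 𝐳) :
    (Subgroup.centralizer (U : Set G)).relIndex (Subgroup.normalizer (U : Set G)) =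
      if Nat.card S = 4 then 3 else 6 := by
  classical
  haveI : Fact (Nat.Prime 2) := ⟨Nat.prime_two⟩
  obtain ⟨i, hi⟩ := h.four_cases hUk hUS
  obtain ⟨hP, hK⟩ := actFour h hi
  obtain ⟨g, hg, hgz⟩ := hmove
  have hgC : g ∉ Subgroup.centralizer (U : Set G) := fun hc =>
    hgz ((hK g hg).1 hc _ (by simp))
  by_cases hn : n = 1
  · rw [if_pos ((card_eq_four_iff h).2 hn)]
    obtain ⟨f, hf, -⟩ := exists_permHom _ _ (fun g a => g * a * g⁻¹) _ (fun a => by simp)
      (fun g g' a => by group) hP hK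
    set d := (Subgroup.centralizer (U : Set G)).relIndex (Subgroup.normalizer (U : Set G)) with hd
    have hd' : d = Nat.card f.range := by rw [hd, Subgroup.relIndex, ← hf, Subgroup.index_ker]
    have h6 : d ∣ 6 := by
      rw [hd']
      refine (Subgroup.card_subgroup_dvd_card _).trans ?_
      rw [Nat.card_eq_fintype_card, Fintype.card_perm, Fintype.card_coe]
      exact (Nat.factorial_dvd_factorial Finset.card_le_three).trans (dvd_of_eq rfl)
    have h1 : d ≠ 1 := fun h1 => hgC (Subgroup.relIndex_eq_one.1 h1 hg)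
    have h2 : ¬ 2 ∣ d := by
      intro h2
      rw [hd'] at h2
      obtain ⟨⟨-, k, rfl⟩, hk⟩ := exists_prime_orderOf_dvd_card' 2 h2
      replace hk : orderOf (f k) = 2 :=
        (orderOf_injective f.range.subtype (Subgroup.subtype_injective _) _).trans hk
      have hkk : k * k ∈ f.ker := by
        rw [MonoidHom.mem_ker, map_mul, ← pow_two, ← hk, pow_orderOf_eq_one]
      rw [hf, Subgroup.mem_subgroupOf] at hkk
      have hU' := eq_sylow_of_one h hn hUk hUS
      subst hU'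
      have hkC := mem_centralizer_of_sq h hn k.2 hkk
      have hker : k ∈ f.ker := by rw [hf, Subgroup.mem_subgroupOf]; exact hkC
      rw [MonoidHom.mem_ker.1 hker, orderOf_one] at hk
      omega
    have := Nat.le_of_dvd (by norm_num) h6
    interval_cases d <;> omega
  · rw [if_neg (fun e => hn ((card_eq_four_iff h).1 e))]
    obtain ⟨huN, huC, huu, huz⟩ := quarter_turn h (by have := h.one_le; omega) hi
    refine (relIndex_two_or_six _ _ (fun g a => g * a * g⁻¹) _ (fun a => by simp)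
      (fun g g' a => by group) hP hK Finset.card_le_three huN huC huu).resolve_left fun h2 => hgz ?_
    have h3 := (hK _ (Subgroup.mul_mem _ hg huN)).1 (mul_mem_of_relIndex_two h2 hg huN hgC huC) 𝐳
      (by simp)
    calc g * 𝐳 * g⁻¹ = g * (x ^ ((2 : ℤ) ^ (n - 2)) * 𝐳 * (x ^ ((2 : ℤ) ^ (n - 2)))⁻¹) * g⁻¹ := by
          rw [huz]
      _ = 𝐳 := by conv_rhs => rw [← h3]
                  group

/-- A full automiser moves `z` onto both other involutions of `U`. -/
theorem fused_of_relIndex (h : IsDihGen (S : Subgroup G) n x y) {U : Subgroup G}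
    (hUk : IsKleinFour U) (hUS : U ≤ (S : Subgroup G)) {i : ℤ}
    (hi : ∀ g, g ∈ U ↔ g = 1 ∨ g = 𝐳 ∨ g = x ^ i * y ∨ g = 𝐳 * (x ^ i * y))
    (hidx : (Subgroup.centralizer (U : Set G)).relIndex (Subgroup.normalizer (U : Set G)) =
      if Nat.card S = 4 then 3 else 6) :
    IsConj 𝐳 (x ^ i * y) := by
  classical
  obtain ⟨hP, hK⟩ := actFour h hi
  by_cases hn : n = 1
  · rw [if_pos ((card_eq_four_iff h).2 hn)] at hidx
    obtain ⟨g, hg, hgC⟩ : ∃ g ∈ Subgroup.normalizer (U : Set G),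
        g ∉ Subgroup.centralizer (U : Set G) := by
      by_contra hno
      push Not at hno
      rw [Subgroup.relIndex_eq_one.2 hno] at hidx
      omega
    have hU' := eq_sylow_of_one h hn hUk hUS
    have hsq : ¬ g * g ∈ Subgroup.centralizer (U : Set G) := by
      subst hU'
      exact fun hh => hgC (mem_centralizer_of_sq h hn hg hh)
    -- so `g` fixes no involution of `U`
    have hfree : ∀ a ∈ ({𝐳, x ^ i * y, 𝐳 * (x ^ i * y)} : Finset G), g * a * g⁻¹ ≠ a := by
      intro a ha e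
      apply hsq
      rw [hK _ (Subgroup.mul_mem _ hg hg)]
      intro b hb
      have hb1 := hP g hg b hb
      have hb2 := hP g hg _ hb1
      rw [show g * g * b * (g * g)⁻¹ = g * (g * b * g⁻¹) * g⁻¹ by group]
      have hinj : ∀ p q : G, g * p * g⁻¹ = g * q * g⁻¹ → p = q := fun p q e' =>
        mul_left_cancel (mul_right_cancel e')
      by_cases hba : b = a
      · rw [hba, e, e]
      by_cases hfb : g * b * g⁻¹ = b
      · rw [hfb, hfb]
      have hne1 : g * b * g⁻¹ ≠ a := fun e' => hba (hinj b a (e'.trans e.symm))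
      have hne2 : g * (g * b * g⁻¹) * g⁻¹ ≠ a := fun e' => hne1 (hinj _ _ (e'.trans e.symm))
      have hne3 : g * (g * b * g⁻¹) * g⁻¹ ≠ g * b * g⁻¹ := fun e' => hfb (hinj _ _ e')
      simp only [Finset.mem_insert, Finset.mem_singleton] at ha hb hb1 hb2
      grind
    have m1 : g * 𝐳 * g⁻¹ = x ^ i * y ∨ g * 𝐳 * g⁻¹ = 𝐳 * (x ^ i * y) := by
      have h1 := hP g hg 𝐳 (by simp)
      simp only [Finset.mem_insert, Finset.mem_singleton] at h1
      exact h1.resolve_left (hfree 𝐳 (by simp))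
    rcases m1 with e | e
    · exact isConj_iff.2 ⟨g, e⟩
    · refine (isConj_iff.2 ⟨g, e⟩).trans (isConj_iff.2 ⟨g, ?_⟩)
      have h1 := hP g hg (𝐳 * (x ^ i * y)) (by simp)
      simp only [Finset.mem_insert, Finset.mem_singleton] at h1
      rcases h1 with e' | e' | e'
      · exfalso
        have h2 : g * (g * 𝐳 * g⁻¹) * g⁻¹ = 𝐳 := by rw [e]; exact e'
        apply hsq
        rw [hK _ (Subgroup.mul_mem _ hg hg)]
        intro b hb
        rw [show g * g * b * (g * g)⁻¹ = g * (g * b * g⁻¹) * g⁻¹ by group]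
        simp only [Finset.mem_insert, Finset.mem_singleton] at hb
        rcases hb with rfl | rfl | rfl
        · exact h2
        · have h3 := hP g hg (x ^ i * y) (by simp)
          simp only [Finset.mem_insert, Finset.mem_singleton] at h3
          rcases h3 with e3 | e3 | e3
          · exact absurd (mul_left_cancel (mul_right_cancel (e3.trans e'.symm)))
              (fun e4 => (hfree (x ^ i * y) (by simp)) (by rw [e3]; exact (by
                have h5 : 𝐳 = 1 := mul_eq_right.1 e4.symm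
                have h6 := h.orderOf_z
                rw [h5, orderOf_one] at h6
                omega)))
          · exact absurd e3 (hfree _ (by simp))
          · exact absurd (mul_left_cancel (mul_right_cancel (e3.trans e.symm)))
              (h.zpow_mul_y_ne _ _)
        · rw [e', e]
      · exact e'
      · exact absurd e' (hfree _ (by simp))
  · rw [if_neg (fun e => hn ((card_eq_four_iff h).1 e))] at hidx
    obtain ⟨g, -, e⟩ := exists_act_eq_of_six _ _ (fun g a => g * a * g⁻¹) _ (fun a => by simp)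
      (fun g g' a => by group) hP hK Finset.card_le_three hidx (p := 𝐳) (q := x ^ i * y)
      (by simp) (by simp)
    exact isConj_iff.2 ⟨g, e⟩

theorem move_of_fused (h : IsDihGen (S : Subgroup G) n x y) (hall : ∀ i : ℤ, IsConj 𝐳 (x ^ i * y))
    {U : Subgroup G} (hUk : IsKleinFour U) (hUS : U ≤ (S : Subgroup G)) :
    ∃ g ∈ Subgroup.normalizer (U : Set G), g * 𝐳 * g⁻¹ ≠ 𝐳 := by
  obtain ⟨i, hi⟩ := h.four_cases hUk hUS
  exact exists_normalizing_move h hUk hUS hi (hall i)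

theorem isConj_z (h : IsDihGen (S : Subgroup G) n x y) (hall : ∀ i : ℤ, IsConj 𝐳 (x ^ i * y))
    {t : G} (ht : orderOf t = 2) : IsConj t 𝐳 := by
  obtain ⟨s, hs, hts⟩ := exists_isConj_mem_sylow S ⟨1, by rw [ht, pow_one]⟩
  have hso : orderOf s = 2 := by
    obtain ⟨g, rfl⟩ := isConj_iff.1 hts
    rw [orderOf_conj, ht]
  rcases h.mem_involution hs hso with rfl | ⟨i, rfl⟩
  · exact hts
  · exact hts.trans (hall i).symm

theorem no_index_two (h : IsDihGen (S : Subgroup G) n x y) (hall : ∀ i : ℤ, IsConj 𝐳 (x ^ i * y))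
    (H : Subgroup G) : H.index ≠ 2 := by
  intro hH
  have hres := pResidual_le_of_index_two hH
  have h0 := exists_conj_mul_inv_mem_of_isConj hH (hall 0)
  have h1 := exists_conj_mul_inv_mem_of_isConj hH (hall 1)
  rw [zpow_zero, one_mul] at h0
  rw [zpow_one] at h1
  have hx : x ∈ H := by
    have := H.mul_mem h1 (H.inv_mem h0)
    simpa [mul_assoc] using this
  have hy : y ∈ H := by
    have := H.mul_mem h0 (H.zpow_mem hx ((2 : ℤ) ^ (n - 1)))
    rwa [inv_mul_cancel_right] at this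
  have hS : (S : Subgroup G) ≤ H := by
    intro g hg
    obtain ⟨i, rfl | rfl⟩ := h.mem_cases hg
    · exact H.zpow_mem hx i
    · exact H.mul_mem (H.zpow_mem hx i) hy
  have := (pResidual_sup_sylow S).ge.trans (sup_le hres hS)
  rw [top_le_iff] at this
  rw [this, Subgroup.index_top] at hH
  omega

theorem no_isolated (h : IsDihGen (S : Subgroup G) n x y) (hall : ∀ i : ℤ, IsConj 𝐳 (x ^ i * y))
    (t : G) : ¬ Cfsg.IsIsolatedInvolution t := by
  rintro ⟨ht, hiso⟩
  obtain ⟨a, ha⟩ := isConj_iff.1 (isConj_z h hall ht).symm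
  obtain ⟨b, hb⟩ := isConj_iff.1 (hall 0)
  have h1 : (a * b * a⁻¹) * t * (a * b * a⁻¹)⁻¹ = a * (x ^ (0 : ℤ) * y) * a⁻¹ := by
    rw [← hb, ← ha]
    group
  have hc : Commute t (a * b * a⁻¹ * t * (a * b * a⁻¹)⁻¹) := by
    rw [h1, ← ha]
    show a * 𝐳 * a⁻¹ * (a * (x ^ (0 : ℤ) * y) * a⁻¹) = a * (x ^ (0 : ℤ) * y) * a⁻¹ * (a * 𝐳 * a⁻¹)
    rw [conj_mul, conj_mul, h.z_comm (h.refl_mem 0)]
  have h2 := hiso _ hc
  rw [h1, ← ha] at h2
  exact h.zpow_mul_y_ne 0 _ (mul_left_cancel (mul_right_cancel h2))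

theorem all_fused_of_no_index_two (h : IsDihGen (S : Subgroup G) n x y)
    (hG : ∀ H : Subgroup G, H.index ≠ 2) (i : ℤ) : IsConj 𝐳 (x ^ i * y) := by
  by_contra hc
  exact refl_not_mem_residual (h.change_y i) hc (pResidual_eq_top hG ▸ Subgroup.mem_top _)

theorem no_fusion_of_local (h : IsDihGen (S : Subgroup G) n x y)
    (hloc : ∀ U : Subgroup G, U ≤ (S : Subgroup G) → IsKleinFour U →
      Subgroup.normalizer (U : Set G) =
        Subgroup.centralizer (U : Set G) ⊔ ((S : Subgroup G) ⊓ Subgroup.normalizer (U : Set G)))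
    (i : ℤ) : ¬ IsConj 𝐳 (x ^ i * y) := by
  intro hc
  obtain ⟨U, hUk, hUS, hU⟩ := h.exists_four i
  obtain ⟨g, hg, hgz⟩ := exists_normalizing_move h hUk hUS hU hc
  apply hgz
  have hle : Subgroup.centralizer (U : Set G) ⊔
      ((S : Subgroup G) ⊓ Subgroup.normalizer (U : Set G)) ≤ Subgroup.centralizer ({𝐳} : Set G) := by
    refine sup_le (fun a ha => ?_) (fun a ha => ?_) <;>
      rw [Subgroup.mem_centralizer_singleton_iff]
    · exact (Subgroup.mem_centralizer_iff.1 ha _ ((hU _).2 (Or.inr (Or.inl rfl)))).symm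
    · exact (h.z_comm ha.1).symm
  rw [hloc U hUS hUk] at hg
  rw [Subgroup.mem_centralizer_singleton_iff.1 (hle hg)]
  group

theorem local_of_odd (S : Sylow 2 G) (hodd : Odd (Nat.card ↥(Cfsg.pResidual 2 G))) {U : Subgroup G}
    (hUS : U ≤ (S : Subgroup G)) :
    Subgroup.normalizer (U : Set G) =
      Subgroup.centralizer (U : Set G) ⊔ ((S : Subgroup G) ⊓ Subgroup.normalizer (U : Set G)) := by
  haveI := pResidual_normal (G := G) 2
  refine le_antisymm (fun g hg => ?_) (sup_le (Subgroup.centralizer_le_normalizer _) inf_le_right)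
  have hmem : g ∈ Cfsg.pResidual 2 G ⊔ (S : Subgroup G) := by rw [pResidual_sup_sylow]; trivial
  obtain ⟨l, hl, s, hs, rfl⟩ := Subgroup.mem_sup_of_normal_left.1 hmem
  have key : ∀ a ∈ U, l * (s * a * s⁻¹) * l⁻¹ = s * a * s⁻¹ := by
    intro a ha
    have hb : s * a * s⁻¹ ∈ (S : Subgroup G) :=
      (S : Subgroup G).mul_mem ((S : Subgroup G).mul_mem hs (hUS ha)) ((S : Subgroup G).inv_mem hs)
    have h1 : l * (s * a * s⁻¹) * l⁻¹ ∈ (S : Subgroup G) := by
      have := hUS (conj_mem_of_mem_normalizer hg ha)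
      convert this using 1
      group
    refine mul_inv_eq_one.1 (residual_inf_eq_bot S hodd
      ((S : Subgroup G).mul_mem h1 ((S : Subgroup G).inv_mem hb)) ?_)
    rw [show l * (s * a * s⁻¹) * l⁻¹ * (s * a * s⁻¹)⁻¹ =
      l * ((s * a * s⁻¹) * l⁻¹ * (s * a * s⁻¹)⁻¹) by group]
    exact Subgroup.mul_mem _ hl
      ((pResidual_normal 2).conj_mem _ (Subgroup.inv_mem _ hl) _)
  have hsN : s ∈ Subgroup.normalizer (U : Set G) := mem_normalizer_of_conj_mem fun a ha => by
    rw [← key a ha]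
    have := conj_mem_of_mem_normalizer hg ha
    convert this using 1
    group
  have hlC : l ∈ Subgroup.centralizer (U : Set G) := by
    rw [Subgroup.mem_centralizer_iff]
    intro b hb
    have ha : s⁻¹ * b * s⁻¹⁻¹ ∈ U := conj_mem_of_mem_normalizer (Subgroup.inv_mem _ hsN) hb
    have e := key _ ha
    rw [show s * (s⁻¹ * b * s⁻¹⁻¹) * s⁻¹ = b by group] at e
    exact (mul_inv_eq_iff_eq_mul.1 e).symm
  exact Subgroup.mul_mem_sup hlC ⟨hs, hsN⟩

theorem IsDihGen_restrict (h : IsDihGen (S : Subgroup G) n x y) {C : Subgroup G}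
    (hSC : (S : Subgroup G) ≤ C) :
    IsDihGen (S.subtype hSC : Subgroup C) n ⟨x, hSC h.x_mem⟩ ⟨y, hSC h.y_mem⟩ where
  one_le := h.one_le
  card := by
    rw [← h.card]
    exact Nat.card_congr (Subgroup.subgroupOfEquivOfLe hSC).toEquiv
  x_mem := h.x_mem
  y_mem := h.y_mem
  ox := by rw [Subgroup.orderOf_mk]; exact h.ox
  oy := by rw [Subgroup.orderOf_mk]; exact h.oy
  rel := Subtype.ext (by simpa using h.rel)
  y_not_mem := fun ⟨j, hj⟩ => h.y_not_mem ⟨j, by simpa using congrArg Subtype.val hj⟩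

/-- For `|S| > 4` the two kinds of four subgroups are not conjugate. -/
theorem not_conj_four (h : IsDihGen (S : Subgroup G) n x y) (hn : 2 ≤ n) {U₀ U₁ : Subgroup G}
    (hU₁k : IsKleinFour U₁) (hU₁S : U₁ ≤ (S : Subgroup G))
    (h₀ : ∀ g, g ∈ U₀ ↔ g = 1 ∨ g = 𝐳 ∨ g = x ^ (0 : ℤ) * y ∨ g = 𝐳 * (x ^ (0 : ℤ) * y))
    (h₁ : ∀ g, g ∈ U₁ ↔ g = 1 ∨ g = 𝐳 ∨ g = x ^ (1 : ℤ) * y ∨ g = 𝐳 * (x ^ (1 : ℤ) * y)) :
    ¬ ∃ g : G, U₀.map (MulAut.conj g).toMonoidHom = U₁ := by
  rintro ⟨g, hg⟩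
  classical
  have hpev : (2 : ℤ) ∣ 2 ^ (n - 1) := dvd_pow_self 2 (by omega)
  obtain ⟨hP, hK⟩ := actFour h h₁
  have him : ∀ a ∈ U₀, a ≠ 1 → g * a * g⁻¹ ∈ ({𝐳, x ^ (1 : ℤ) * y, 𝐳 * (x ^ (1 : ℤ) * y)} :
      Finset G) := by
    intro a ha ha1
    rcases (h₁ _).1 (hg ▸ conj_mem_map_conj (m := g) ha) with e | e | e | e
    · exact absurd (conj_eq_one_iff.1 e) ha1
    all_goals simp [e]
  have hz1 : 𝐳 ≠ 1 := fun e => by
    have h2 := h.orderOf_z
    rw [e, orderOf_one] at h2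
    omega
  -- we may assume that `g` fixes `z`
  obtain ⟨k, hk, hkz⟩ : ∃ k ∈ Subgroup.normalizer (U₁ : Set G),
      k * (g * 𝐳 * g⁻¹) * k⁻¹ = 𝐳 := by
    by_cases hgz : g * 𝐳 * g⁻¹ = 𝐳
    · exact ⟨1, Subgroup.one_mem _, by rw [hgz]; group⟩
    have hmem := him _ ((h₀ _).2 (Or.inr (Or.inl rfl))) hz1
    have hc : IsConj 𝐳 (x ^ (1 : ℤ) * y) := by
      simp only [Finset.mem_insert, Finset.mem_singleton] at hmem
      rcases hmem with e | e | e
      · exact absurd e hgz
      · exact isConj_iff.2 ⟨g, e⟩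
      · rw [← mul_assoc, ← zpow_add] at e
        exact (isConj_iff.2 ⟨g, e⟩).trans (h.isConj_refl (by omega))
    have hidx := relIndex_of_move h hU₁k hU₁S (exists_normalizing_move h hU₁k hU₁S h₁ hc)
    rw [if_neg (fun e => by have := (card_eq_four_iff h).1 e; omega)] at hidx
    exact exists_act_eq_of_six _ _ (fun g a => g * a * g⁻¹) _ (fun a => by simp)
      (fun g g' a => by group) hP hK Finset.card_le_three hidx hmem (by simp)
  have hkgz : k * g * 𝐳 * (k * g)⁻¹ = 𝐳 := by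
    conv_rhs => rw [← hkz]
    group
  have hyU : x ^ (0 : ℤ) * y ∈ U₀ := (h₀ _).2 (Or.inr (Or.inr (Or.inl rfl)))
  have hw : k * g * (x ^ (0 : ℤ) * y) * (k * g)⁻¹ ∈ U₁ := by
    have := conj_mem_of_mem_normalizer hk (hg ▸ conj_mem_map_conj (m := g) hyU)
    convert this using 1
    group
  -- work inside the centraliser of `z`
  have hSC : (S : Subgroup G) ≤ Subgroup.centralizer ({𝐳} : Set G) := fun a ha => by
    rw [Subgroup.mem_centralizer_singleton_iff, h.z_comm ha]
  have hC := IsDihGen_restrict h hSC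
  have hkgC : k * g ∈ Subgroup.centralizer ({𝐳} : Set G) := by
    rw [Subgroup.mem_centralizer_singleton_iff]
    exact mul_inv_eq_iff_eq_mul.1 hkgz
  have hnone : ∀ j : ℤ, ¬ IsConj ((⟨x, hSC h.x_mem⟩ : Subgroup.centralizer ({𝐳} : Set G)) ^
      ((2 : ℤ) ^ (n - 1))) (⟨x, hSC h.x_mem⟩ ^ j * ⟨y, hSC h.y_mem⟩) := by
    intro j hc
    obtain ⟨c, hc⟩ := isConj_iff.1 hc
    have h1 := congrArg Subtype.val hc
    simp only [Subgroup.coe_mul, Subgroup.coe_inv, SubgroupClass.coe_zpow] at h1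
    rw [Subgroup.mem_centralizer_singleton_iff.1 c.2, mul_inv_cancel_right] at h1
    exact h.zpow_mul_y_ne _ _ h1.symm
  have hodd := odd_residual hC hnone
  obtain ⟨j, hj, hjw⟩ : ∃ j : ℤ, ¬ (2 : ℤ) ∣ j - 0 ∧
      k * g * (x ^ (0 : ℤ) * y) * (k * g)⁻¹ = x ^ j * y := by
    rcases (h₁ _).1 hw with e | e | e | e
    · exact absurd (by rw [conj_eq_one_iff.1 e, zpow_zero]) (h.zpow_mul_y_ne 0 0)
    · exact absurd (mul_left_cancel (mul_right_cancel (e.trans hkgz.symm)))
        (h.zpow_mul_y_ne 0 _)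
    · exact ⟨1, by omega, e⟩
    · refine ⟨2 ^ (n - 1) + 1, by omega, ?_⟩
      rw [e, ← mul_assoc, ← zpow_add]
  exact not_isConj_parity hC hodd hj
    (isConj_iff.2 ⟨⟨k * g, hkgC⟩, Subtype.ext (by simpa using hjw)⟩)

end CfsgLib.FusionTwo.DihFusion
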